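import Mathlib

/-!
# Fibre products of rings `B ×_A A'` (ring-level lemmas)

Helper library of helper19 (for S0433 and relatives): primes of a fibre product along a
surjection, and compatibility of fibre products with localization at one element.
-/

set_option autoImplicit false
universe u

namespace Groth.Agent.Helper19.FibProd

variable {A A' B : Type u} [CommRing A] [CommRing A'] [CommRing B] (p : A' →+* A) (q : B →+* A)

/-- The fibre product ring `B ×_A A'` as a subring of `B × A'`. -/
abbrev FP : Subring (B × A') :=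
  RingHom.eqLocus (q.comp (RingHom.fst B A')) (p.comp (RingHom.snd B A'))

/-- first projection `B ×_A A' → B`. -/
def fstP : FP p q →+* B := (RingHom.fst B A').comp (FP p q).subtype

/-- second projection `B ×_A A' → A'`. -/
def sndP : FP p q →+* A' := (RingHom.snd B A').comp (FP p q).subtype

theorem comm (x : FP p q) : q (fstP p q x) = p (sndP p q x) := x.2

/-- constructor of elements of the fibre product. -/
def mkP (b : B) (a' : A') (h : q b = p a') : FP p q := ⟨(b, a'), h⟩

@[simp] theorem fstP_mkP (b : B) (a' : A') (h : q b = p a') : fstP p q (mkP p q b a' h) = b := rfl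
@[simp] theorem sndP_mkP (b : B) (a' : A') (h : q b = p a') : sndP p q (mkP p q b a' h) = a' := rfl

variable {p q} in
theorem ext {x y : FP p q} (h1 : fstP p q x = fstP p q y) (h2 : sndP p q x = sndP p q y) :
    x = y := Subtype.ext (Prod.ext h1 h2)

theorem fstP_surjective (hp : Function.Surjective p) : Function.Surjective (fstP p q) := by
  intro b
  obtain ⟨a', ha'⟩ := hp (q b)
  exact ⟨mkP p q b a' ha'.symm, rfl⟩

/-- Every prime of `B ×_A A'` comes from `B` or from `A'` (when `A' → A` is surjective). -/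
theorem exists_prime_over (hp : Function.Surjective p) (x : PrimeSpectrum (FP p q)) :
    (∃ y : PrimeSpectrum B, PrimeSpectrum.comap (fstP p q) y = x) ∨
      (∃ z : PrimeSpectrum A', PrimeSpectrum.comap (sndP p q) z = x) := by
  have hsurj := fstP_surjective p q hp
  by_cases h : RingHom.ker (fstP p q) ≤ x.asIdeal
  · left
    refine ⟨⟨x.asIdeal.map (fstP p q), Ideal.map_isPrime_of_surjective hsurj h⟩, ?_⟩
    ext1
    change (x.asIdeal.map (fstP p q)).comap (fstP p q) = x.asIdeal
    rw [Ideal.comap_map_of_surjective _ hsurj]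
    exact sup_eq_left.mpr h
  · right
    obtain ⟨f₀, hf₀k, hf₀x⟩ := SetLike.not_le_iff_exists.mp h
    have hf₀1 : fstP p q f₀ = 0 := hf₀k
    have hpi : p (sndP p q f₀) = 0 := by rw [← comm, hf₀1, map_zero]
    let m : A' → FP p q := fun t => mkP p q 0 (t * sndP p q f₀) (by rw [map_zero, map_mul, hpi, mul_zero])
    have hm_mul : ∀ r : FP p q, r * f₀ = m (sndP p q r) := by
      intro r
      apply ext
      · simp [m, hf₀1]
      · simp [m]
    have hm_add : ∀ t₁ t₂, m (t₁ + t₂) = m t₁ + m t₂ := by
      intro t₁ t₂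
      apply ext
      · simp [m]
      · simp [m, add_mul]
    have hm_mm : ∀ t₁ t₂, m (t₁ * t₂) * f₀ = m t₁ * m t₂ := by
      intro t₁ t₂
      apply ext
      · simp [m]
      · simp only [map_mul, sndP_mkP, m]; ring
    have hm1 : m 1 = f₀ := by
      apply ext
      · simp [m, hf₀1]
      · simp [m]
    have hm0 : m 0 = 0 := by
      apply ext
      · simp [m]
      · simp [m]
    have hprime := x.isPrime
    let z : Ideal A' :=
      { carrier := {t | m t ∈ x.asIdeal}
        add_mem' := fun {t₁ t₂} h₁ h₂ => by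
          change m (t₁ + t₂) ∈ x.asIdeal
          rw [hm_add]; exact x.asIdeal.add_mem h₁ h₂
        zero_mem' := by
          change m 0 ∈ x.asIdeal
          rw [hm0]; exact x.asIdeal.zero_mem
        smul_mem' := fun r t ht => by
          change m (r * t) ∈ x.asIdeal
          have h1 : m (r * t) * f₀ ∈ x.asIdeal := by
            rw [hm_mm]; exact x.asIdeal.mul_mem_left _ ht
          exact (hprime.mem_or_mem h1).resolve_right hf₀x }
    have hz : z.IsPrime := by
      refine ⟨?_, ?_⟩
      · intro htop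
        have h1 : (1 : A') ∈ z := by rw [htop]; trivial
        have h2 : m 1 ∈ x.asIdeal := h1
        rw [hm1] at h2
        exact hf₀x h2
      · intro t₁ t₂ h12
        have h1 : m (t₁ * t₂) ∈ x.asIdeal := h12
        have h2 : m t₁ * m t₂ ∈ x.asIdeal := by
          rw [← hm_mm]; exact x.asIdeal.mul_mem_right _ h1
        exact hprime.mem_or_mem h2
    refine ⟨⟨z, hz⟩, ?_⟩
    ext r
    change m (sndP p q r) ∈ x.asIdeal ↔ r ∈ x.asIdeal
    rw [← hm_mul]
    constructor
    · intro h1
      exact (hprime.mem_or_mem h1).resolve_right hf₀x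
    · intro h1
      exact x.asIdeal.mul_mem_right _ h1

section Loc

variable (s : FP p q)
  {Ps Bs As Cs : Type u} [CommRing Ps] [CommRing Bs] [CommRing As] [CommRing Cs]
  [Algebra (FP p q) Ps] [Algebra B Bs] [Algebra A' As] [Algebra A Cs]
  [IsLocalization.Away s Ps] [IsLocalization.Away (fstP p q s) Bs]
  [IsLocalization.Away (sndP p q s) As] [IsLocalization.Away (q (fstP p q s)) Cs]
  (φB : Ps →+* Bs) (φA : Ps →+* As) (ψB : Bs →+* Cs) (ψA : As →+* Cs)
  (hφB : ∀ x, φB (algebraMap (FP p q) Ps x) = algebraMap B Bs (fstP p q x))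
  (hφA : ∀ x, φA (algebraMap (FP p q) Ps x) = algebraMap A' As (sndP p q x))
  (hψB : ∀ b, ψB (algebraMap B Bs b) = algebraMap A Cs (q b))
  (hψA : ∀ a, ψA (algebraMap A' As a) = algebraMap A Cs (p a))

include s hφB hφA in
/-- `(B ×_A A')_s → B_s × A'_s` is injective. -/
theorem loc_inj (x : Ps) (h1 : φB x = 0) (h2 : φA x = 0) : x = 0 := by
  obtain ⟨n, r, hr⟩ := IsLocalization.Away.surj s x
  have hu : IsUnit (algebraMap (FP p q) Ps s ^ n) :=
    (IsLocalization.Away.algebraMap_isUnit s).pow n
  have e1 : algebraMap B Bs (fstP p q r) = 0 := by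
    rw [← hφB, ← hr, map_mul, h1, zero_mul]
  have e2 : algebraMap A' As (sndP p q r) = 0 := by
    rw [← hφA, ← hr, map_mul, h2, zero_mul]
  obtain ⟨k₁, hk₁⟩ := IsLocalization.Away.exists_of_eq (fstP p q s) (e1.trans (map_zero _).symm)
  obtain ⟨k₂, hk₂⟩ := IsLocalization.Away.exists_of_eq (sndP p q s) (e2.trans (map_zero _).symm)
  have e3 : s ^ (k₁ + k₂) * r = 0 := by
    apply ext
    · simp only [map_mul, map_pow, map_zero]
      rw [pow_add, mul_comm (fstP p q s ^ k₁), mul_assoc, hk₁, mul_zero, mul_zero]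
    · simp only [map_mul, map_pow, map_zero]
      rw [pow_add, mul_assoc, hk₂, mul_zero, mul_zero]
  have e4 : algebraMap (FP p q) Ps r = 0 := by
    have := congrArg (algebraMap (FP p q) Ps) e3
    rw [map_mul, map_pow, map_zero] at this
    exact ((IsLocalization.Away.algebraMap_isUnit s).pow (k₁ + k₂)).mul_right_eq_zero.mp this
  rw [e4] at hr
  exact hu.mul_left_eq_zero.mp hr

include s hφB hφA hψB hψA in
/-- compatible pairs in `B_s × A'_s` come from `(B ×_A A')_s`. -/
theorem loc_surj (β : Bs) (α : As) (h : ψB β = ψA α) : ∃ x : Ps, φB x = β ∧ φA x = α := by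
  obtain ⟨n, β₀, hβ₀⟩ := IsLocalization.Away.surj (fstP p q s) β
  obtain ⟨m, α₀, hα₀⟩ := IsLocalization.Away.surj (sndP p q s) α
  -- common exponent
  have hβ₁ : β * algebraMap B Bs (fstP p q s) ^ (n + m) =
      algebraMap B Bs (β₀ * fstP p q s ^ m) := by
    rw [pow_add, ← mul_assoc, hβ₀, map_mul, map_pow]
  have hα₁ : α * algebraMap A' As (sndP p q s) ^ (n + m) =
      algebraMap A' As (α₀ * sndP p q s ^ n) := by
    rw [pow_add, mul_comm (algebraMap A' As (sndP p q s) ^ n), ← mul_assoc, hα₀, map_mul, map_pow]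
  have e1 : algebraMap A Cs (q (β₀ * fstP p q s ^ m)) =
      algebraMap A Cs (p (α₀ * sndP p q s ^ n)) := by
    rw [← hψB, ← hψA, ← hβ₁, ← hα₁, map_mul, map_mul, map_pow, map_pow, hψB, hψA, h, comm]
  obtain ⟨k, hk⟩ := IsLocalization.Away.exists_of_eq (q (fstP p q s)) e1
  have hcomp : q (fstP p q s ^ k * (β₀ * fstP p q s ^ m)) =
      p (sndP p q s ^ k * (α₀ * sndP p q s ^ n)) := by
    rw [map_mul, map_mul p, map_pow, map_pow p, hk, comm]
  let r : FP p q := mkP p q _ _ hcomp
  have hu := (IsLocalization.Away.algebraMap_isUnit (S := Ps) s).pow (n + m + k)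
  obtain ⟨v, hv⟩ := hu
  refine ⟨algebraMap (FP p q) Ps r * ↑v⁻¹, ?_, ?_⟩
  · have huB := (IsLocalization.Away.algebraMap_isUnit (S := Bs) (fstP p q s)).pow (n + m + k)
    apply huB.mul_left_injective
    change φB (algebraMap (FP p q) Ps r * ↑v⁻¹) * _ = β * _
    have e2 : algebraMap B Bs (fstP p q s) ^ (n + m + k) = φB (↑v) := by
      rw [hv, map_pow, hφB]
    rw [e2, ← map_mul, mul_assoc, Units.inv_mul, mul_one, hφB, ← e2]
    simp only [fstP_mkP, r]
    rw [map_mul, map_pow, pow_add _ (n + m) k, ← mul_assoc β, hβ₁, mul_comm]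
  · have huA := (IsLocalization.Away.algebraMap_isUnit (S := As) (sndP p q s)).pow (n + m + k)
    apply huA.mul_left_injective
    change φA (algebraMap (FP p q) Ps r * ↑v⁻¹) * _ = α * _
    have e2 : algebraMap A' As (sndP p q s) ^ (n + m + k) = φA (↑v) := by
      rw [hv, map_pow, hφA]
    rw [e2, ← map_mul, mul_assoc, Units.inv_mul, mul_one, hφA, ← e2]
    simp only [sndP_mkP, r]
    rw [map_mul, map_pow, pow_add _ (n + m) k, ← mul_assoc α, hα₁, mul_comm]

include s hφB hφA in
theorem loc_ext (x y : Ps) (h1 : φB x = φB y) (h2 : φA x = φA y) : x = y :=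
  sub_eq_zero.mp (loc_inj p q s φB φA hφB hφA _ (by rw [map_sub, h1, sub_self])
    (by rw [map_sub, h2, sub_self]))

include s hφB hφA hψB hψA in
/-- ring maps into `(B ×_A A')_s` are compatible pairs of ring maps into `B_s` and `A'_s`. -/
theorem loc_lift {R : Type u} [CommRing R] (fβ : R →+* Bs) (fα : R →+* As)
    (h : ψB.comp fβ = ψA.comp fα) :
    ∃ γ : R →+* Ps, φB.comp γ = fβ ∧ φA.comp γ = fα := by
  choose γ hγB hγA using fun r =>
    loc_surj p q s φB φA ψB ψA hφB hφA hψB hψA (fβ r) (fα r) (RingHom.congr_fun h r)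
  have key := loc_ext p q s φB φA hφB hφA
  refine ⟨{ toFun := γ
            map_one' := key _ _ (by rw [hγB, map_one, map_one]) (by rw [hγA, map_one, map_one])
            map_mul' := fun a b => key _ _ (by rw [hγB, map_mul, map_mul, hγB, hγB])
              (by rw [hγA, map_mul, map_mul, hγA, hγA])
            map_zero' := key _ _ (by rw [hγB, map_zero, map_zero])
              (by rw [hγA, map_zero, map_zero])
            map_add' := fun a b => key _ _ (by rw [hγB, map_add, map_add, hγB, hγB])
              (by rw [hγA, map_add, map_add, hγA, hγA]) }, RingHom.ext hγB, RingHom.ext hγA⟩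

end Loc

end Groth.Agent.Helper19.FibProd
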