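import Groth.Agent.Lib.Helper19.FibProd.Sch
import Mathlib

/-!
# Open immersions into `Spec (B ×_A A')`

Helper library of helper19 (for S7431).
-/

set_option autoImplicit false
universe u

open CategoryTheory CategoryTheory.Limits AlgebraicGeometry

namespace Groth.Agent.Helper19.FibProd

/-- An injective morphism which is an open immersion locally on the source is an open immersion. -/
theorem isOpenImmersion_of_cover_of_injective {X Y : Scheme.{u}} (f : X ⟶ Y)
    (hinj : Function.Injective f)
    (H : ∀ x : X, ∃ (V : Scheme.{u}) (j : V ⟶ X), IsOpenImmersion j ∧ x ∈ Set.range j ∧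
      IsOpenImmersion (j ≫ f)) : IsOpenImmersion f := by
  have hopen : IsOpenMap f := by
    intro U hU
    rw [isOpen_iff_forall_mem_open]
    rintro _ ⟨x, hxU, rfl⟩
    obtain ⟨V, j, hj, ⟨v, rfl⟩, hjf⟩ := H x
    refine ⟨(j ≫ f) '' (j ⁻¹' U), ?_, ?_, ?_⟩
    · rintro _ ⟨v', hv', rfl⟩
      exact ⟨j v', hv', rfl⟩
    · exact (j ≫ f).isOpenEmbedding.isOpenMap _ (hU.preimage j.continuous)
    · exact ⟨v, hxU, rfl⟩
  have hemb : Topology.IsOpenEmbedding f :=
    .of_continuous_injective_isOpenMap f.continuous hinj hopen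
  have hst : ∀ x, IsIso (f.stalkMap x) := by
    intro x
    obtain ⟨V, j, hj, ⟨v, rfl⟩, hjf⟩ := H x
    have e := Scheme.Hom.stalkMap_comp j f v
    haveI h1 : IsIso ((j ≫ f).stalkMap v) := inferInstance
    haveI : IsIso (j.stalkMap v) := inferInstance
    rw [e] at h1
    exact @IsIso.of_isIso_comp_right _ _ _ _ _ (f.stalkMap (j v)) (j.stalkMap v) _ h1
  exact IsOpenImmersion.of_isIso_stalkMap f hemb

noncomputable section

variable {A A' B : Type u} [CommRing A] [CommRing A'] [CommRing B] (p : A' →+* A) (q : B →+* A)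

theorem ψ_comm (s : FP p q) (x : Localization.Away s) :
    ψB p q s (φB p q s x) = ψA p q s (φA p q s x) := by
  have : (ψB p q s).comp (φB p q s) = (ψA p q s).comp (φA p q s) := by
    apply IsLocalization.ringHom_ext (Submonoid.powers s)
    ext x
    simp only [RingHom.comp_apply, hφB, hφA, hψB, hψA, comm]
  exact RingHom.congr_fun this x

/-- if `B_s → A_s` is bijective then so is `(B ×_A A')_s → A'_s`. -/
theorem φA_bijective (s : FP p q) (h : Function.Bijective (ψB p q s)) :
    Function.Bijective (φA p q s) := by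
  constructor
  · rw [injective_iff_map_eq_zero]
    intro x hx
    have h1 : ψB p q s (φB p q s x) = 0 := by rw [ψ_comm, hx, map_zero]
    have h2 : φB p q s x = 0 := h.1 (h1.trans (map_zero _).symm)
    exact loc_inj p q s (φB p q s) (φA p q s) (hφB p q s) (hφA p q s) x h2 hx
  · intro α
    obtain ⟨β, hβ⟩ := h.2 (ψA p q s α)
    obtain ⟨x, -, hx⟩ := loc_surj p q s (φB p q s) (φA p q s) (ψB p q s) (ψA p q s)
      (hφB p q s) (hφA p q s) (hψB p q s) (hψA p q s) β α hβ
    exact ⟨x, hx⟩

/-- the union of the `D(sndP h_i)` maps by an open immersion to `Spec (B ×_A A')` when all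
`B_{h_i} → A_{h_i}` are bijective. -/
theorem isOpenImmersion_iSup {ι : Type*} (hs : ι → FP p q)
    (hbij : ∀ i, Function.Bijective (ψB p q (hs i))) :
    IsOpenImmersion (Scheme.Opens.ι (X := Spec (CommRingCat.of A'))
      (⨆ i, PrimeSpectrum.basicOpen (sndP p q (hs i))) ≫ sa p q) := by
  set W' : (Spec (CommRingCat.of A')).Opens := ⨆ i, PrimeSpectrum.basicOpen (sndP p q (hs i))
    with hW'
  have hmem : ∀ x : Spec (CommRingCat.of A'), x ∈ W' ↔ ∃ i, sndP p q (hs i) ∉ x.asIdeal := by
    intro x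
    exact TopologicalSpace.Opens.mem_iSup
  -- charts
  have hiso : ∀ i, IsIso (aS p q (hs i)) := by
    intro i
    have : IsIso (CommRingCat.ofHom (φA p q (hs i))) := by
      rw [ConcreteCategory.isIso_iff_bijective]
      exact φA_bijective p q (hs i) (hbij i)
    infer_instance
  have hsub : ∀ i, Set.range (ch (sndP p q (hs i))) ⊆ Set.range W'.ι := by
    intro i
    rw [range_ch, Scheme.Opens.range_ι]
    intro x hx
    exact (hmem x).mpr ⟨i, hx⟩
  have hfac : ∀ i, IsOpenImmersion.lift W'.ι (ch (sndP p q (hs i))) (hsub i) ≫ W'.ι ≫ sa p q =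
      aS p q (hs i) ≫ ch (hs i) := by
    intro i
    rw [← Category.assoc, IsOpenImmersion.lift_fac, aS_ch]
  apply isOpenImmersion_of_cover_of_injective
  · -- injectivity
    intro x x' hxx
    obtain ⟨i, hi⟩ := (hmem x.1).mp x.2
    have hx1 : (sa p q) x.1 = (sa p q) x'.1 := hxx
    have hi' : sndP p q (hs i) ∉ x'.1.asIdeal := by
      intro hmem'
      apply hi
      have h1 : hs i ∈ ((sa p q) x'.1).asIdeal := hmem'
      rw [← hx1] at h1
      exact h1
    have hc : x.1 ∈ Set.range (ch (sndP p q (hs i))) := by rw [range_ch]; exact hi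
    have hc' : x'.1 ∈ Set.range (ch (sndP p q (hs i))) := by rw [range_ch]; exact hi'
    obtain ⟨c, hc⟩ := hc
    obtain ⟨c', hc'⟩ := hc'
    have h2 : (aS p q (hs i) ≫ ch (hs i)) c = (aS p q (hs i) ≫ ch (hs i)) c' := by
      rw [aS_ch, Scheme.Hom.comp_apply, Scheme.Hom.comp_apply, hc, hc']
      exact hx1
    haveI := hiso i
    have h3 : c = c' := (aS p q (hs i) ≫ ch (hs i)).isOpenEmbedding.injective h2
    apply Subtype.ext
    rw [← hc, ← hc', h3]
  · intro x
    obtain ⟨i, hi⟩ := (hmem x.1).mp x.2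
    haveI := hiso i
    refine ⟨_, IsOpenImmersion.lift W'.ι (ch (sndP p q (hs i))) (hsub i), inferInstance, ?_, ?_⟩
    · have hc : x.1 ∈ Set.range (ch (sndP p q (hs i))) := by rw [range_ch]; exact hi
      obtain ⟨c, hc⟩ := hc
      refine ⟨c, W'.ι.isOpenEmbedding.injective ?_⟩
      rw [← Scheme.Hom.comp_apply, IsOpenImmersion.lift_fac]
      exact hc
    · rw [hfac]
      infer_instance

end

end Groth.Agent.Helper19.FibProd
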