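import Groth.Agent.Lib.Helper19.FibProd.Ring
import Groth.Agent.Lib.Helper19.UnionPO.Sch
import Mathlib

/-!
# `Spec (B ×_A A')` is a pushout of schemes (for `A' → A` surjective)

Helper library of helper19 (for S0433).
-/

set_option autoImplicit false
universe u

open CategoryTheory CategoryTheory.Limits AlgebraicGeometry

namespace Groth.Agent.Helper19.FibProd

noncomputable section

variable {A A' B : Type u} [CommRing A] [CommRing A'] [CommRing B] (p : A' →+* A) (q : B →+* A)

/-- `Spec (B ×_A A')`. -/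
abbrev SP : Scheme.{u} := Spec (CommRingCat.of (FP p q))
/-- `Spec A' → Spec (B ×_A A')`. -/
abbrev sa : Spec (CommRingCat.of A') ⟶ SP p q := Spec.map (CommRingCat.ofHom (sndP p q))
/-- `Spec B → Spec (B ×_A A')`. -/
abbrev sb : Spec (CommRingCat.of B) ⟶ SP p q := Spec.map (CommRingCat.ofHom (fstP p q))
/-- `Spec A → Spec A'`. -/
abbrev si : Spec (CommRingCat.of A) ⟶ Spec (CommRingCat.of A') := Spec.map (CommRingCat.ofHom p)
/-- `Spec A → Spec B`. -/
abbrev sj : Spec (CommRingCat.of A) ⟶ Spec (CommRingCat.of B) := Spec.map (CommRingCat.ofHom q)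

theorem sq_comm : si p ≫ sa p q = sj q ≫ sb p q := by
  rw [← Spec.map_comp, ← Spec.map_comp]
  congr 1
  ext x
  exact (comm p q x).symm

theorem exists_preimage (hp : Function.Surjective p) (x : SP p q) :
    (∃ y, sb p q y = x) ∨ (∃ z, sa p q z = x) :=
  exists_prime_over p q hp x

/-- generic chart `Spec R_r → Spec R`. -/
abbrev ch {R : Type u} [CommRing R] (r : R) :
    Spec (CommRingCat.of (Localization.Away r)) ⟶ Spec (CommRingCat.of R) :=
  Spec.map (CommRingCat.ofHom (algebraMap R (Localization.Away r)))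

theorem range_ch {R : Type u} [CommRing R] (r : R) :
    Set.range (ch r) = {x : Spec (CommRingCat.of R) | r ∉ x.asIdeal} := by
  have := PrimeSpectrum.localization_away_comap_range (Localization.Away r) r
  ext x
  exact Set.ext_iff.mp this x

/-- generic induced map on charts -/
noncomputable abbrev chMap {R R' : Type u} [CommRing R] [CommRing R'] (f : R →+* R') (r : R) :
    Spec (CommRingCat.of (Localization.Away (f r))) ⟶ Spec (CommRingCat.of (Localization.Away r)) :=
  Spec.map (CommRingCat.ofHom (IsLocalization.Away.map (Localization.Away r)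
    (Localization.Away (f r)) f r))

theorem chMap_ch {R R' : Type u} [CommRing R] [CommRing R'] (f : R →+* R') (r : R) :
    chMap f r ≫ ch r = ch (f r) ≫ Spec.map (CommRingCat.ofHom f) := by
  rw [← Spec.map_comp, ← Spec.map_comp]
  congr 1
  ext x
  simp [IsLocalization.Away.map]

/-- a morphism from an affine scheme landing in an affine open factors through its ring. -/
theorem exists_ringHom_of_range_subset {T : Scheme.{u}} {V : T.Opens} (hV : IsAffineOpen V)
    {R : CommRingCat.{u}} (φ : Spec R ⟶ T) (h : Set.range φ ⊆ (V : Set T)) :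
    ∃ ψ : Γ(T, V) ⟶ R, Spec.map ψ ≫ hV.fromSpec = φ := by
  have hr : Set.range φ ⊆ Set.range hV.fromSpec := by rw [hV.range_fromSpec]; exact h
  refine ⟨Spec.preimage (IsOpenImmersion.lift hV.fromSpec φ hr), ?_⟩
  rw [Spec.map_preimage, IsOpenImmersion.lift_fac]

theorem ringHom_ext_of_fromSpec {T : Scheme.{u}} {V : T.Opens} (hV : IsAffineOpen V)
    {R : CommRingCat.{u}} (ψ ψ' : Γ(T, V) ⟶ R)
    (h : Spec.map ψ ≫ hV.fromSpec = Spec.map ψ' ≫ hV.fromSpec) : ψ = ψ' :=
  Spec.map_injective ((cancel_mono _).mp h)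

instance instAwayC (s : FP p q) :
    IsLocalization.Away (q (fstP p q s)) (Localization.Away (p (sndP p q s))) := by
  rw [comm]; infer_instance

section Chart

variable (s : FP p q)

/-- ring maps between the localized rings of a chart -/
abbrev φB : Localization.Away s →+* Localization.Away (fstP p q s) :=
  IsLocalization.Away.map _ _ (fstP p q) s
abbrev φA : Localization.Away s →+* Localization.Away (sndP p q s) :=
  IsLocalization.Away.map _ _ (sndP p q) s
abbrev ψA : Localization.Away (sndP p q s) →+* Localization.Away (p (sndP p q s)) :=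
  IsLocalization.Away.map _ _ p (sndP p q s)
abbrev ψB : Localization.Away (fstP p q s) →+* Localization.Away (p (sndP p q s)) :=
  IsLocalization.Away.map _ _ q (fstP p q s)

theorem hφB (x : FP p q) : φB p q s (algebraMap _ _ x) = algebraMap B _ (fstP p q x) := by
  simp [IsLocalization.Away.map]
theorem hφA (x : FP p q) : φA p q s (algebraMap _ _ x) = algebraMap A' _ (sndP p q x) := by
  simp [IsLocalization.Away.map]
theorem hψA (x : A') : ψA p q s (algebraMap _ _ x) = algebraMap A _ (p x) := by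
  simp [IsLocalization.Away.map]
theorem hψB (x : B) : ψB p q s (algebraMap _ _ x) = algebraMap A _ (q x) := by
  simp [IsLocalization.Away.map]

/-- chart maps -/
abbrev aS : Spec (CommRingCat.of (Localization.Away (sndP p q s))) ⟶
    Spec (CommRingCat.of (Localization.Away s)) := Spec.map (CommRingCat.ofHom (φA p q s))
abbrev bS : Spec (CommRingCat.of (Localization.Away (fstP p q s))) ⟶
    Spec (CommRingCat.of (Localization.Away s)) := Spec.map (CommRingCat.ofHom (φB p q s))
abbrev iS : Spec (CommRingCat.of (Localization.Away (p (sndP p q s)))) ⟶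
    Spec (CommRingCat.of (Localization.Away (sndP p q s))) :=
  Spec.map (CommRingCat.ofHom (ψA p q s))
abbrev jS : Spec (CommRingCat.of (Localization.Away (p (sndP p q s)))) ⟶
    Spec (CommRingCat.of (Localization.Away (fstP p q s))) :=
  Spec.map (CommRingCat.ofHom (ψB p q s))

theorem aS_ch : aS p q s ≫ ch s = ch (sndP p q s) ≫ sa p q := chMap_ch (sndP p q) s
theorem bS_ch : bS p q s ≫ ch s = ch (fstP p q s) ≫ sb p q := chMap_ch (fstP p q) s
theorem iS_ch : iS p q s ≫ ch (sndP p q s) = ch (p (sndP p q s)) ≫ si p := chMap_ch p (sndP p q s)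
theorem jS_ch : jS p q s ≫ ch (fstP p q s) = ch (p (sndP p q s)) ≫ sj q := by
  rw [← Spec.map_comp, ← Spec.map_comp]
  congr 1
  ext x
  simp [IsLocalization.Away.map]

/-- descent of a compatible pair of morphisms on a chart landing in an affine open. -/
theorem chart_desc {T : Scheme.{u}} (g : Spec (CommRingCat.of A') ⟶ T)
    (h : Spec (CommRingCat.of B) ⟶ T) (hgh : si p ≫ g = sj q ≫ h)
    (V : T.Opens) (hV : IsAffineOpen V)
    (hA : ∀ z : Spec (CommRingCat.of A'), sndP p q s ∉ z.asIdeal → g z ∈ V)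
    (hB : ∀ y : Spec (CommRingCat.of B), fstP p q s ∉ y.asIdeal → h y ∈ V) :
    ∃ l : Spec (CommRingCat.of (Localization.Away s)) ⟶ T,
      aS p q s ≫ l = ch (sndP p q s) ≫ g ∧ bS p q s ≫ l = ch (fstP p q s) ≫ h := by
  obtain ⟨α, hα⟩ := exists_ringHom_of_range_subset hV (ch (sndP p q s) ≫ g) (by
    rintro _ ⟨c, rfl⟩
    have hc : ch (sndP p q s) c ∈ Set.range (ch (sndP p q s)) := ⟨c, rfl⟩
    rw [range_ch] at hc
    exact hA _ hc)
  obtain ⟨β, hβ⟩ := exists_ringHom_of_range_subset hV (ch (fstP p q s) ≫ h) (by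
    rintro _ ⟨c, rfl⟩
    have hc : ch (fstP p q s) c ∈ Set.range (ch (fstP p q s)) := ⟨c, rfl⟩
    rw [range_ch] at hc
    exact hB _ hc)
  have hcompat : (ψB p q s).comp β.hom = (ψA p q s).comp α.hom := by
    have e : β ≫ CommRingCat.ofHom (ψB p q s) = α ≫ CommRingCat.ofHom (ψA p q s) := by
      apply ringHom_ext_of_fromSpec hV
      rw [Spec.map_comp, Spec.map_comp, Category.assoc, Category.assoc, hα, hβ,
        ← Category.assoc, ← Category.assoc]
      change (jS p q s ≫ ch (fstP p q s)) ≫ h = (iS p q s ≫ ch (sndP p q s)) ≫ g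
      rw [jS_ch, iS_ch, Category.assoc, Category.assoc, hgh]
    exact congrArg CommRingCat.Hom.hom e
  obtain ⟨γ, hγB, hγA⟩ := loc_lift p q s (φB p q s) (φA p q s) (ψB p q s) (ψA p q s)
    (hφB p q s) (hφA p q s) (hψB p q s) (hψA p q s) β.hom α.hom hcompat
  refine ⟨Spec.map (CommRingCat.ofHom γ) ≫ hV.fromSpec, ?_, ?_⟩
  · rw [← hα, ← Category.assoc, ← Spec.map_comp]
    congr 2
    ext x
    exact RingHom.congr_fun hγA x
  · rw [← hβ, ← Category.assoc, ← Spec.map_comp]
    congr 2
    ext x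
    exact RingHom.congr_fun hγB x

end Chart

/-- a prime of `A'` containing `ker p` comes from `A`. -/
theorem exists_si_eq (hp : Function.Surjective p) (z : Spec (CommRingCat.of A'))
    (hk : RingHom.ker p ≤ z.asIdeal) : ∃ z₀ : Spec (CommRingCat.of A), si p z₀ = z := by
  refine ⟨⟨z.asIdeal.map p, Ideal.map_isPrime_of_surjective hp hk⟩, ?_⟩
  apply PrimeSpectrum.ext
  change (z.asIdeal.map p).comap p = z.asIdeal
  rw [Ideal.comap_map_of_surjective _ hp]
  exact sup_eq_left.mpr hk

/-- around every point of `Spec (B ×_A A')` there is a basic open on which a compatible pair of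
morphisms lands in a common affine open. -/
theorem exists_chart (hp : Function.Surjective p) {T : Scheme.{u}}
    (g : Spec (CommRingCat.of A') ⟶ T) (h : Spec (CommRingCat.of B) ⟶ T)
    (hgh : si p ≫ g = sj q ≫ h) (x : SP p q) :
    ∃ (s : FP p q) (V : T.Opens), IsAffineOpen V ∧ s ∉ x.asIdeal ∧
      (∀ z : Spec (CommRingCat.of A'), sndP p q s ∉ z.asIdeal → g z ∈ V) ∧
      (∀ y : Spec (CommRingCat.of B), fstP p q s ∉ y.asIdeal → h y ∈ V) := by
  have hcase : (∃ y, sb p q y = x) ∨
      (∃ z, sa p q z = x ∧ ¬ RingHom.ker p ≤ z.asIdeal) := by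
    rcases exists_preimage p q hp x with hy | ⟨z, hz⟩
    · exact Or.inl hy
    · by_cases hk : RingHom.ker p ≤ z.asIdeal
      · left
        obtain ⟨z₀, hz₀⟩ := exists_si_eq p hp z hk
        refine ⟨sj q z₀, ?_⟩
        rw [← hz, ← hz₀, ← Scheme.Hom.comp_apply, ← Scheme.Hom.comp_apply, sq_comm]
      · exact Or.inr ⟨z, hz, hk⟩
  rcases hcase with ⟨y, rfl⟩ | ⟨z, rfl, hk⟩
  · -- the point comes from `Spec B`
    obtain ⟨_, ⟨V, hV : IsAffineOpen V, rfl⟩, hyV, -⟩ :=
      T.isBasis_affineOpens.exists_subset_of_mem_open (Set.mem_univ (h y)) isOpen_univ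
    have hO : @IsOpen (PrimeSpectrum B) _ (h ⁻¹ᵁ V).1 := (h ⁻¹ᵁ V).2
    obtain ⟨_, ⟨b₁, rfl⟩, hyb, hbO⟩ :=
      PrimeSpectrum.isTopologicalBasis_basic_opens.exists_subset_of_mem_open
        (show (y : PrimeSpectrum B) ∈ (h ⁻¹ᵁ V).1 from hyV) hO
    obtain ⟨a₁, ha₁⟩ := hp (q b₁)
    let C : Set (PrimeSpectrum A') := (g ⁻¹ᵁ V).1ᶜ
    have hCcl : IsClosed C := isClosed_compl_iff.mpr (g ⁻¹ᵁ V).2
    let J : Ideal A' := PrimeSpectrum.vanishingIdeal C
    have hrad : a₁ ∈ (RingHom.ker p ⊔ J).radical := by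
      rw [Ideal.radical_eq_sInf, Ideal.mem_sInf]
      rintro z ⟨hle, hzp⟩
      by_contra ha
      have hk : RingHom.ker p ≤ z := le_sup_left.trans hle
      have hJ : J ≤ z := le_sup_right.trans hle
      have hzc : (⟨z, hzp⟩ : PrimeSpectrum A') ∈ C := by
        rw [← hCcl.closure_eq, ← PrimeSpectrum.zeroLocus_vanishingIdeal_eq_closure]
        exact hJ
      apply hzc
      obtain ⟨z₀, hz₀⟩ := exists_si_eq p hp (⟨z, hzp⟩ : PrimeSpectrum A') hk
      have h1 : h (sj q z₀) ∈ V := by
        apply hbO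
        change b₁ ∉ (sj q z₀).asIdeal
        intro hb
        apply ha
        have h2 : q b₁ ∈ z₀.asIdeal := hb
        rw [← ha₁] at h2
        have h3 : a₁ ∈ (si p z₀).asIdeal := h2
        rw [hz₀] at h3
        exact h3
      have h4 : g (si p z₀) ∈ V := by
        rw [← Scheme.Hom.comp_apply, hgh, Scheme.Hom.comp_apply]; exact h1
      rw [hz₀] at h4
      exact h4
    obtain ⟨n, hn⟩ := hrad
    obtain ⟨i₁, hi₁, j₁, hj₁, hij⟩ := Submodule.mem_sup.mp hn
    have hpj : p j₁ = q b₁ ^ n := by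
      have h1 : p (i₁ + j₁) = p (a₁ ^ n) := by rw [hij]
      rw [map_add, (RingHom.mem_ker).mp hi₁, zero_add, map_pow, ha₁] at h1
      exact h1
    refine ⟨mkP p q (b₁ ^ (n + 1)) (a₁ * j₁) (by rw [map_pow, map_mul, hpj, ha₁, pow_succ']),
      V, hV, ?_, ?_, ?_⟩
    · change fstP p q (mkP p q _ _ _) ∉ y.asIdeal
      simp only [fstP_mkP]
      intro hmem
      exact hyb (y.isPrime.mem_of_pow_mem _ hmem)
    · intro z hz
      simp only [sndP_mkP] at hz
      have hj : j₁ ∉ z.asIdeal := fun hj => hz (z.asIdeal.mul_mem_left _ hj)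
      by_contra hgz
      exact hj ((PrimeSpectrum.mem_vanishingIdeal _ _).mp hj₁ z hgz)
    · intro y' hy'
      simp only [fstP_mkP] at hy'
      apply hbO
      change b₁ ∉ y'.asIdeal
      exact fun hb => hy' (Ideal.pow_mem_of_mem _ hb (n + 1) (Nat.succ_pos n))
  · -- the point comes from `Spec A' ∖ Spec A`
    obtain ⟨i₀, hi₀k, hi₀z⟩ := SetLike.not_le_iff_exists.mp hk
    obtain ⟨_, ⟨V, hV : IsAffineOpen V, rfl⟩, hzV, -⟩ :=
      T.isBasis_affineOpens.exists_subset_of_mem_open (Set.mem_univ (g z)) isOpen_univ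
    have hO : @IsOpen (PrimeSpectrum A') _ (g ⁻¹ᵁ V).1 := (g ⁻¹ᵁ V).2
    obtain ⟨_, ⟨a₁, rfl⟩, hza, haO⟩ :=
      PrimeSpectrum.isTopologicalBasis_basic_opens.exists_subset_of_mem_open
        (show (z : PrimeSpectrum A') ∈ (g ⁻¹ᵁ V).1 from hzV) hO
    refine ⟨mkP p q 0 (i₀ * a₁) (by rw [map_zero, map_mul, (RingHom.mem_ker).mp hi₀k, zero_mul]),
      V, hV, ?_, ?_, ?_⟩
    · change sndP p q (mkP p q _ _ _) ∉ z.asIdeal
      simp only [sndP_mkP]
      intro hmem
      rcases z.isPrime.mem_or_mem hmem with h1 | h1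
      · exact hi₀z h1
      · exact hza h1
    · intro z' hz'
      simp only [sndP_mkP] at hz'
      apply haO
      change a₁ ∉ z'.asIdeal
      exact fun ha => hz' (z'.asIdeal.mul_mem_left _ ha)
    · intro y' hy'
      simp only [fstP_mkP] at hy'
      exact absurd y'.asIdeal.zero_mem hy'

/-- basic open charts inside an open of an open subscheme of `Spec R`. -/
theorem exists_chart_lift {R : Type u} [CommRing R] {W : Scheme.{u}}
    (u : W ⟶ Spec (CommRingCat.of R)) [IsOpenImmersion u]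
    (W' : W.Opens) (w : W) (hw : w ∈ W') :
    ∃ (s : R) (k : Spec (CommRingCat.of (Localization.Away s)) ⟶ W),
      k ≫ u = ch s ∧ w ∈ Set.range k ∧ (∀ c, k c ∈ W') ∧ s ∉ (u w).asIdeal := by
  have hO : @IsOpen (PrimeSpectrum R) _ (u ''ᵁ W').1 := (u ''ᵁ W').2
  have hwO : (u w : PrimeSpectrum R) ∈ (u ''ᵁ W').1 := ⟨w, hw, rfl⟩
  obtain ⟨_, ⟨s, rfl⟩, hws, hsO⟩ :=
    PrimeSpectrum.isTopologicalBasis_basic_opens.exists_subset_of_mem_open hwO hO
  have hrange : ∀ c, ∃ w' ∈ W', u w' = ch s c := by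
    intro c
    have hc : ch s c ∈ Set.range (ch s) := ⟨c, rfl⟩
    rw [range_ch] at hc
    have hc' : (ch s c : PrimeSpectrum R) ∈
        (PrimeSpectrum.basicOpen s : Set (PrimeSpectrum R)) := hc
    obtain ⟨w', hw', e⟩ := hsO hc'
    exact ⟨w', hw', e⟩
  have hsub : Set.range (ch s) ⊆ Set.range u := by
    rintro _ ⟨c, rfl⟩
    obtain ⟨w', -, e⟩ := hrange c
    exact ⟨w', e⟩
  refine ⟨s, IsOpenImmersion.lift u _ hsub, IsOpenImmersion.lift_fac _ _ _, ?_, ?_, hws⟩
  · have hw' : u w ∈ Set.range (ch s) := by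
      rw [range_ch]; exact hws
    obtain ⟨c, hc⟩ := hw'
    refine ⟨c, u.isOpenEmbedding.injective ?_⟩
    rw [← hc, ← Scheme.Hom.comp_apply, IsOpenImmersion.lift_fac]
  · intro c
    obtain ⟨w', hw', e⟩ := hrange c
    have : IsOpenImmersion.lift u _ hsub c = w' := by
      apply u.isOpenEmbedding.injective
      rw [e, ← Scheme.Hom.comp_apply, IsOpenImmersion.lift_fac]
    exact this ▸ hw'

/-- uniqueness of morphisms out of open subschemes of `Spec (B ×_A A')`. -/
theorem hom_ext_chart (hp : Function.Surjective p) {W T : Scheme.{u}} (u : W ⟶ SP p q)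
    [IsOpenImmersion u] (l l' : W ⟶ T)
    (H : ∀ (s : FP p q) (k : Spec (CommRingCat.of (Localization.Away s)) ⟶ W), k ≫ u = ch s →
      aS p q s ≫ k ≫ l = aS p q s ≫ k ≫ l' ∧ bS p q s ≫ k ≫ l = bS p q s ≫ k ≫ l') :
    l = l' := by
  apply UnionPO.hom_ext_of_forall_immersion
  intro w
  have hpt : l w = l' w := by
    obtain ⟨s, k, hk, -, -, hs⟩ := exists_chart_lift u ⊤ w trivial
    obtain ⟨hA, hB⟩ := H s k hk
    rcases exists_preimage p q hp (u w) with ⟨y, hy⟩ | ⟨z, hz⟩
    · have hy' : y ∈ Set.range (ch (fstP p q s)) := by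
        rw [range_ch]
        change fstP p q s ∉ y.asIdeal
        intro hmem
        apply hs
        rw [← hy]
        exact hmem
      obtain ⟨y', rfl⟩ := hy'
      have e : k (bS p q s y') = w := by
        apply u.isOpenEmbedding.injective
        rw [← Scheme.Hom.comp_apply, hk, ← Scheme.Hom.comp_apply, bS_ch, Scheme.Hom.comp_apply]
        exact hy
      have := congrArg (fun f : _ ⟶ T => f y') hB
      simp only [Scheme.Hom.comp_apply] at this
      rw [e] at this
      exact this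
    · have hz' : z ∈ Set.range (ch (sndP p q s)) := by
        rw [range_ch]
        change sndP p q s ∉ z.asIdeal
        intro hmem
        apply hs
        rw [← hz]
        exact hmem
      obtain ⟨z', rfl⟩ := hz'
      have e : k (aS p q s z') = w := by
        apply u.isOpenEmbedding.injective
        rw [← Scheme.Hom.comp_apply, hk, ← Scheme.Hom.comp_apply, aS_ch, Scheme.Hom.comp_apply]
        exact hz
      have := congrArg (fun f : _ ⟶ T => f z') hA
      simp only [Scheme.Hom.comp_apply] at this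
      rw [e] at this
      exact this
  obtain ⟨_, ⟨V, hV : IsAffineOpen V, rfl⟩, hwV, -⟩ :=
    T.isBasis_affineOpens.exists_subset_of_mem_open (Set.mem_univ (l w)) isOpen_univ
  have hwV' : l' w ∈ V := hpt ▸ hwV
  obtain ⟨s, k, hk, hwk, hkW, -⟩ := exists_chart_lift u (l ⁻¹ᵁ V ⊓ l' ⁻¹ᵁ V) w ⟨hwV, hwV'⟩
  haveI : IsOpenImmersion (k ≫ u) := by rw [hk]; infer_instance
  haveI : IsOpenImmersion k := IsOpenImmersion.of_comp k u
  refine ⟨_, k, inferInstance, hwk, ?_⟩
  obtain ⟨γ, hγ⟩ := exists_ringHom_of_range_subset hV (k ≫ l) (by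
    rintro _ ⟨c, rfl⟩; exact (hkW c).1)
  obtain ⟨γ', hγ'⟩ := exists_ringHom_of_range_subset hV (k ≫ l') (by
    rintro _ ⟨c, rfl⟩; exact (hkW c).2)
  obtain ⟨hA, hB⟩ := H s k hk
  rw [← hγ, ← hγ']
  have eA : γ ≫ CommRingCat.ofHom (φA p q s) = γ' ≫ CommRingCat.ofHom (φA p q s) := by
    apply ringHom_ext_of_fromSpec hV
    rw [Spec.map_comp, Spec.map_comp, Category.assoc, Category.assoc, hγ, hγ']
    exact hA
  have eB : γ ≫ CommRingCat.ofHom (φB p q s) = γ' ≫ CommRingCat.ofHom (φB p q s) := by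
    apply ringHom_ext_of_fromSpec hV
    rw [Spec.map_comp, Spec.map_comp, Category.assoc, Category.assoc, hγ, hγ']
    exact hB
  have : γ = γ' := by
    ext r
    exact loc_ext p q s (φB p q s) (φA p q s) (hφB p q s) (hφA p q s) _ _
      (congrArg (fun f => f.hom r) eB) (congrArg (fun f => f.hom r) eA)
  rw [this]

/-- transition between charts -/
theorem chart_trans {R R' : Type u} [CommRing R] [CommRing R'] (f : R →+* R') {T : Scheme.{u}}
    (g : Spec (CommRingCat.of R') ⟶ T) (s t : R)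
    (m : Spec (CommRingCat.of (Localization.Away t)) ⟶ Spec (CommRingCat.of (Localization.Away s)))
    (hm : m ≫ ch s = ch t) (l : Spec (CommRingCat.of (Localization.Away s)) ⟶ T)
    (hl : chMap f s ≫ l = ch (f s) ≫ g) : chMap f t ≫ m ≫ l = ch (f t) ≫ g := by
  have hsub : Set.range (ch (f t)) ⊆ Set.range (ch (f s)) := by
    rw [range_ch, range_ch]
    intro z hz
    change f t ∉ z.asIdeal at hz
    change f s ∉ z.asIdeal
    have h1 : Spec.map (CommRingCat.ofHom f) z ∈ Set.range (ch t) := by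
      rw [range_ch]; exact hz
    rw [← hm] at h1
    obtain ⟨c, hc⟩ := h1
    have h2 : Spec.map (CommRingCat.ofHom f) z ∈ Set.range (ch s) := ⟨m c, hc⟩
    rw [range_ch] at h2
    exact h2
  have hn := IsOpenImmersion.lift_fac (ch (f s)) (ch (f t)) hsub
  have hn2 : IsOpenImmersion.lift (ch (f s)) (ch (f t)) hsub ≫ chMap f s = chMap f t ≫ m := by
    rw [← cancel_mono (ch s), Category.assoc, Category.assoc, chMap_ch, hm, chMap_ch,
      ← Category.assoc, hn]
  rw [← Category.assoc, ← hn2, Category.assoc, hl, ← Category.assoc, hn]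

theorem exists_desc (hp : Function.Surjective p) {T : Scheme.{u}}
    (g : Spec (CommRingCat.of A') ⟶ T) (h : Spec (CommRingCat.of B) ⟶ T)
    (hgh : si p ≫ g = sj q ≫ h) :
    ∃ l : SP p q ⟶ T, sa p q ≫ l = g ∧ sb p q ≫ l = h := by
  choose s V hV hs hA hB using exists_chart p q hp g h hgh
  choose lx hlA hlB using fun x => chart_desc p q (s x) g h hgh (V x) (hV x) (hA x) (hB x)
  let 𝒰 : (SP p q).OpenCover := {
    I₀ := SP p q
    X x := Spec (CommRingCat.of (Localization.Away (s x)))
    f x := ch (s x)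
    mem₀ := by
      rw [Scheme.presieve₀_mem_precoverage_iff]
      exact ⟨fun w ↦ ⟨w, by rw [range_ch]; exact hs w⟩, fun w => inferInstance⟩ }
  have hcompat : ∀ x y : SP p q,
      pullback.fst (𝒰.f x) (𝒰.f y) ≫ lx x = pullback.snd (𝒰.f x) (𝒰.f y) ≫ lx y := by
    intro x y
    apply hom_ext_chart p q hp (pullback.fst (𝒰.f x) (𝒰.f y) ≫ 𝒰.f x)
    intro t k hk
    have hk1 : (k ≫ pullback.fst (𝒰.f x) (𝒰.f y)) ≫ ch (s x) = ch t := by
      rw [Category.assoc]; exact hk
    have hk2 : (k ≫ pullback.snd (𝒰.f x) (𝒰.f y)) ≫ ch (s y) = ch t := by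
      rw [Category.assoc]
      have := pullback.condition (f := 𝒰.f x) (g := 𝒰.f y)
      change _ ≫ _ ≫ 𝒰.f y = _
      rw [← this]; exact hk
    constructor
    · have e1 := chart_trans (sndP p q) g (s x) t _ hk1 (lx x) (hlA x)
      have e2 := chart_trans (sndP p q) g (s y) t _ hk2 (lx y) (hlA y)
      simp only [Category.assoc] at e1 e2 ⊢
      rw [e1, e2]
    · have e1 := chart_trans (fstP p q) h (s x) t _ hk1 (lx x) (hlB x)
      have e2 := chart_trans (fstP p q) h (s y) t _ hk2 (lx y) (hlB y)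
      simp only [Category.assoc] at e1 e2 ⊢
      rw [e1, e2]
  refine ⟨𝒰.glueMorphisms lx hcompat, ?_, ?_⟩
  · apply UnionPO.hom_ext_of_forall_immersion
    intro z
    refine ⟨_, ch (sndP p q (s (sa p q z))), inferInstance, ?_, ?_⟩
    · rw [range_ch]; exact hs (sa p q z)
    · rw [← Category.assoc, ← aS_ch, Category.assoc]
      have := 𝒰.ι_glueMorphisms lx hcompat (sa p q z)
      change ch (s (sa p q z)) ≫ _ = _ at this
      rw [this, hlA]
  · apply UnionPO.hom_ext_of_forall_immersion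
    intro y
    refine ⟨_, ch (fstP p q (s (sb p q y))), inferInstance, ?_, ?_⟩
    · rw [range_ch]; exact hs (sb p q y)
    · rw [← Category.assoc, ← bS_ch, Category.assoc]
      have := 𝒰.ι_glueMorphisms lx hcompat (sb p q y)
      change ch (s (sb p q y)) ≫ _ = _ at this
      rw [this, hlB]

theorem desc_unique (hp : Function.Surjective p) {T : Scheme.{u}} (m₁ m₂ : SP p q ⟶ T)
    (hA : sa p q ≫ m₁ = sa p q ≫ m₂) (hB : sb p q ≫ m₁ = sb p q ≫ m₂) : m₁ = m₂ := by
  apply hom_ext_chart p q hp (𝟙 _)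
  intro s k hk
  rw [Category.comp_id] at hk
  subst hk
  constructor
  · rw [← Category.assoc, aS_ch, Category.assoc, hA, ← Category.assoc, ← Category.assoc, aS_ch]
  · rw [← Category.assoc, bS_ch, Category.assoc, hB, ← Category.assoc, ← Category.assoc, bS_ch]

/-- `Spec (B ×_A A')` is the pushout of `Spec B` and `Spec A'` along `Spec A`
(for `A' → A` surjective). -/
theorem isPushout (hp : Function.Surjective p) :
    IsPushout (si p) (sj q) (sa p q) (sb p q) := by
  refine ⟨⟨sq_comm p q⟩, ⟨PushoutCocone.IsColimit.mk (sq_comm p q)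
    (fun s => (exists_desc p q hp s.inl s.inr s.condition).choose)
    (fun s => (exists_desc p q hp s.inl s.inr s.condition).choose_spec.1)
    (fun s => (exists_desc p q hp s.inl s.inr s.condition).choose_spec.2) ?_⟩⟩
  intro s m h1 h2
  apply desc_unique p q hp
  · rw [h1, (exists_desc p q hp s.inl s.inr s.condition).choose_spec.1]
  · rw [h2, (exists_desc p q hp s.inl s.inr s.condition).choose_spec.2]

end

end Groth.Agent.Helper19.FibProd
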